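/-
Vanishing lemmas for Postnikov systems.
-/
import Mathlib.CategoryTheory.Triangulated.Pretriangulated

open CategoryTheory Limits Pretriangulated

universe v u

namespace Groth.Agent.PostnikovLib.Basic

variable {D : Type u} [Category.{v} D] [Preadditive D] [HasShift D ℤ]
  [∀ n : ℤ, (shiftFunctor D n).Additive]

/-- Vanishing of `Hom(A⟦p⟧, B⟦q⟧)` depends only on `p - q`. -/
theorem zero_of_shift {A B : D} (p q p' q' : ℤ) (h : p - q = p' - q')
    (H : ∀ f : A⟦p⟧ ⟶ B⟦q⟧, f = 0) (f : A⟦p'⟧ ⟶ B⟦q'⟧) : f = 0 := by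
  have := H ((shiftFunctorAdd' D p' (p - p') p (by omega)).hom.app A ≫ f⟦p - p'⟧' ≫
    (shiftFunctorAdd' D q' (p - p') q (by omega)).inv.app B)
  apply (shiftFunctor D (p - p')).map_injective
  rw [Functor.map_zero]
  rwa [Preadditive.IsIso.comp_left_eq_zero, Preadditive.IsIso.comp_right_eq_zero] at this

theorem zero_of_shift_src {A B : D} (p p' q' : ℤ) (h : p = p' - q')
    (H : ∀ f : A⟦p⟧ ⟶ B, f = 0) (f : A⟦p'⟧ ⟶ B⟦q'⟧) : f = 0 :=
  zero_of_shift p 0 p' q' (by omega) (fun g => (cancel_mono ((shiftFunctorZero D ℤ).hom.app B)).1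
    (by rw [zero_comp]; exact H _)) f

theorem zero_of_shift_tgt {A B : D} (q p' q' : ℤ) (h : -q = p' - q')
    (H : ∀ f : A ⟶ B⟦q⟧, f = 0) (f : A⟦p'⟧ ⟶ B⟦q'⟧) : f = 0 :=
  zero_of_shift 0 q p' q' (by omega) (fun g => (cancel_epi ((shiftFunctorZero D ℤ).inv.app A)).1
    (by rw [comp_zero]; exact H _)) f

variable [HasZeroObject D] [Pretriangulated D]

/-- a morphism out of the first object killed by the connecting map factors through the first map -/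
theorem exists_desc {A B C T : D} {f : A ⟶ B} {g : B ⟶ C} {h : C ⟶ A⟦(1 : ℤ)⟧}
    (hT : Triangle.mk f g h ∈ distTriang D) (w : A ⟶ T) (hw : h ≫ w⟦(1 : ℤ)⟧' = 0) :
    ∃ ψ : B ⟶ T, w = f ≫ ψ := by
  obtain ⟨b, hb⟩ := Triangle.yoneda_exact₃ _ (rot_of_distTriang _ hT) (w⟦(1 : ℤ)⟧') hw
  obtain ⟨b', rfl⟩ : ∃ b' : B ⟶ T, (shiftFunctor D (1 : ℤ)).map b' = b :=
    (shiftFunctor D (1 : ℤ)).map_surjective b
  refine ⟨-b', (shiftFunctor D (1 : ℤ)).map_injective ?_⟩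
  rw [Preadditive.comp_neg, Functor.map_neg]
  exact hb.trans ((Preadditive.neg_comp _ _).trans (congrArg (- ·) (Functor.map_comp _ _ _).symm))

variable (n : ℕ) (Z Y : ℕ → D) (a : ∀ k, Y k ⟶ Z k) (b : ∀ k, Z (k + 1) ⟶ Y k)
  (c : ∀ k, Y k ⟶ (Y (k + 1))⟦(1 : ℤ)⟧) (h0 : IsIso (a 0))
  (hP : ∀ k, k < n → Triangle.mk (a (k + 1)) (b k) (c k) ∈ distTriang D)

include h0 hP in
theorem hom_from_eq_zero : ∀ (k : ℕ), k ≤ n → ∀ (T : D),
    (∀ l : ℕ, l ≤ k → ∀ ψ : (Z (k - l))⟦-(l : ℤ)⟧ ⟶ T, ψ = 0) → ∀ ω : Y k ⟶ T, ω = 0 := by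
  intro k
  induction k with
  | zero =>
    intro _ T H ω
    have := H 0 le_rfl ((shiftFunctorZero' D (-((0 : ℕ) : ℤ)) (by simp)).hom.app (Z 0) ≫ inv (a 0) ≫ ω)
    rwa [Preadditive.IsIso.comp_left_eq_zero, Preadditive.IsIso.comp_left_eq_zero] at this
  | succ k ih =>
    intro hk T H ω
    have hc : c k ≫ ω⟦(1 : ℤ)⟧' = 0 := by
      refine ih (by omega) _ (fun l hl ψ => ?_) _
      refine zero_of_shift_src (-((l + 1 : ℕ) : ℤ)) _ _ (by push_cast; omega) (fun g => ?_) ψ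
      have := H (l + 1) (by omega)
      rw [show k + 1 - (l + 1) = k - l by omega] at this
      exact this g
    obtain ⟨ψ, hψ⟩ := exists_desc (hP k (by omega)) ω hc
    have : ψ = 0 := by
      have := H 0 (by omega) ((shiftFunctorZero' D (-((0 : ℕ) : ℤ)) (by simp)).hom.app (Z (k + 1)) ≫ ψ)
      rwa [Preadditive.IsIso.comp_left_eq_zero] at this
    rw [hψ, this, comp_zero]

include h0 hP in
theorem hom_to_eq_zero : ∀ (k : ℕ), k ≤ n → ∀ (T : D),
    (∀ l : ℕ, l ≤ k → ∀ ψ : T ⟶ (Z (k - l))⟦-(l : ℤ)⟧, ψ = 0) → ∀ ω : T ⟶ Y k, ω = 0 := by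
  intro k
  induction k with
  | zero =>
    intro _ T H ω
    have := H 0 le_rfl (ω ≫ a 0 ≫ (shiftFunctorZero' D (-((0 : ℕ) : ℤ)) (by simp)).inv.app (Z 0))
    rwa [← Category.assoc, Preadditive.IsIso.comp_right_eq_zero,
      Preadditive.IsIso.comp_right_eq_zero] at this
  | succ k ih =>
    intro hk T H ω
    have h1 : ω ≫ a (k + 1) = 0 := by
      have := H 0 (by omega) ((ω ≫ a (k + 1)) ≫
        (shiftFunctorZero' D (-((0 : ℕ) : ℤ)) (by simp)).inv.app (Z (k + 1)))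
      rwa [Preadditive.IsIso.comp_right_eq_zero] at this
    obtain ⟨ρ, hρ⟩ := Triangle.coyoneda_exact₁ _ (hP k (by omega)) (ω⟦(1 : ℤ)⟧')
      (by
        show ω⟦(1 : ℤ)⟧' ≫ (a (k + 1))⟦(1 : ℤ)⟧' = 0
        rw [← Functor.map_comp, h1, Functor.map_zero])
    have : ρ = 0 := by
      refine ih (by omega) _ (fun l hl ψ => ?_) ρ
      refine zero_of_shift_tgt (-((l + 1 : ℕ) : ℤ)) _ _ (by push_cast; omega) (fun g => ?_) ψ
      have := H (l + 1) (by omega)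
      rw [show k + 1 - (l + 1) = k - l by omega] at this
      exact this g
    rw [this, zero_comp] at hρ
    apply (shiftFunctor D (1 : ℤ)).map_injective
    exact hρ.trans (Functor.map_zero _ _ _).symm

end Groth.Agent.PostnikovLib.Basic
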